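import Cfsg.Agent.H602.DP.Def
import Cfsg.Agent.H572.RV.SylC

/-!
# S4247, parts C and D (helper735)

Decomposition of a nondegenerate `T`-invariant subspace into minimal ones; `p`-elements of `C_G(T)` are trivial on
`[V, T]`.  The lemmas A2, A3 and B on minimal subspaces are hypotheses here.
-/

set_option autoImplicit false
set_option linter.unusedSectionVars false

namespace Cfsg.Agent.H735.DP

open Module Cfsg.Agent.H167.OP Cfsg.Agent.H170.HL Cfsg.Agent.H572.RV Cfsg.Agent.H602.DP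

variable {F : Type*} [Field F] [Finite F] {V : Type*} [AddCommGroup V] [Module F V] [Finite V]
  [FiniteDimensional F V] {G : Type*} [Group G] [Finite G]
  {ρ : Representation F G V} {f : V →ₗ[F] V →ₗ[F] F} {Q : V → F} {t : ℕ} {T : Subgroup G} {U : Submodule F V}

/-- the statement of lemma A2 -/
def A2 (ρ : Representation F G V) (f : V →ₗ[F] V →ₗ[F] F) (T : Subgroup G) : Prop :=
  ∀ U : Submodule F V, Mn ρ f T U → ∀ u : G, (∀ z ∈ T, z * u = u * z) → (∀ x ∈ U, ρ u x ∈ U) →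
    ∀ c : F, c * c = 1 → (∀ x ∈ U, ρ u x = c • x → x = 0) ∨ ∀ x ∈ U, ρ u x = c • x

/-- the statement of lemma A3 -/
def A3 (ρ : Representation F G V) (f : V →ₗ[F] V →ₗ[F] F) (T : Subgroup G) : Prop :=
  ∀ U : Submodule F V, Mn ρ f T U → ∀ u : G, (∀ z ∈ T, z * u = u * z) → ∀ x ∈ U, ρ u x ∈ U

/-- the statement of lemma B -/
def B (ρ : Representation F G V) (f : V →ₗ[F] V →ₗ[F] F) (T : Subgroup G) : Prop :=
  ∀ U : Submodule F V, Mn ρ f T U → cnt ρ T U ≤ Nat.card F ^ (finrank F U / 2) + 1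

theorem exists_mn (hi : Inv ρ T U) (hnd : ND f U) (h0 : ∀ u ∈ U, (∀ z ∈ T, ρ z u = u) → u = 0) (hU : U ≠ ⊥) :
    ∃ U₁ ≤ U, U₁ ≠ ⊥ ∧ Mn ρ f T U₁ := by
  have hfin : Finite (Submodule F V) := inferInstance
  let S : Set (Submodule F V) := {X | X ≤ U ∧ X ≠ ⊥ ∧ Inv ρ T X ∧ ND f X}
  have hS : S.Nonempty := ⟨U, le_rfl, hU, hi, hnd⟩
  obtain ⟨X, hXS, hXm⟩ := (Set.toFinite S).exists_minimal hS
  obtain ⟨hXU, hX0, hXi, hXn⟩ := hXS
  refine ⟨X, hXU, hX0, hXi, hXn, ?_, ?_⟩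
  · by_contra hcon
    push Not at hcon
    apply hX0
    rw [eq_bot_iff]
    intro x hx
    rw [Submodule.mem_bot]
    exact h0 x (hXU hx) fun z hz => hcon z hz x hx
  · intro Y hY hYi hYn
    by_cases hY0 : Y = ⊥
    · exact Or.inl hY0
    · right
      have hYS : Y ∈ S := ⟨hY.trans hXU, hY0, hYi, hYn⟩
      exact le_antisymm hY (hXm hYS hY)

theorem inv_Orth (h : FRep ρ f) (hi : Inv ρ T U) : Inv ρ T (Orth f U) := by
  intro z hz w hw u hu
  have h1 := h.iso z (ρ z⁻¹ u) w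
  rw [ap_inv] at h1
  rw [h1]
  exact hw _ (hi _ (T.inv_mem hz) u hu)

section compl

variable {U₁ : Submodule F V}

theorem decomp' (hU : U₁ ≤ U) (hn : ND f U₁) {u : V} (hu : u ∈ U) :
    ∃ a ∈ U₁, ∃ b ∈ U ⊓ Orth f U₁, u = a + b := by
  obtain ⟨a, ha, b, hb, rfl⟩ := decomp hn u
  refine ⟨a, ha, b, ⟨?_, hb⟩, rfl⟩
  have := U.sub_mem hu (hU ha)
  rwa [add_sub_cancel_left] at this

theorem nd_compl (hU : U₁ ≤ U) (hn : ND f U₁) (hnd : ND f U) : ND f (U ⊓ Orth f U₁) := by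
  intro u hu hx
  apply hnd u hu.1
  intro x hxU
  obtain ⟨a, ha, b, hb, rfl⟩ := decomp' hU hn hxU
  rw [map_add, LinearMap.add_apply, hu.2 a ha, hx b hb, add_zero]

theorem inv_compl (h : FRep ρ f) (hi : Inv ρ T U) (hi₁ : Inv ρ T U₁) : Inv ρ T (U ⊓ Orth f U₁) :=
  fun z hz u hu => ⟨hi z hz u hu.1, inv_Orth h hi₁ z hz u hu.2⟩

theorem finrank_compl (hU : U₁ ≤ U) (hn : ND f U₁) :
    finrank F U₁ + finrank F (U ⊓ Orth f U₁ : Submodule F V) = finrank F U := by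
  rw [← Submodule.finrank_sup_add_finrank_inf_eq]
  have h1 : U₁ ⊔ U ⊓ Orth f U₁ = U := by
    apply le_antisymm (sup_le hU inf_le_left)
    intro u hu
    obtain ⟨a, ha, b, hb, rfl⟩ := decomp' hU hn hu
    exact Submodule.add_mem_sup ha hb
  have h2 : U₁ ⊓ (U ⊓ Orth f U₁) = ⊥ := by
    rw [eq_bot_iff]
    rintro x ⟨hx, -, hx'⟩
    rw [Submodule.mem_bot]
    exact hn x hx hx'
  rw [h1, h2, finrank_bot, add_zero]

theorem cnt_mul (hU : U₁ ≤ U) (hn : ND f U₁) : cnt ρ T U ≤ cnt ρ T U₁ * cnt ρ T (U ⊓ Orth f U₁) := by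
  classical
  unfold cnt
  rw [← Nat.card_prod]
  let C := Subgroup.centralizer (T : Set G)
  let R (W : Submodule F V) : Set (W →ₗ[F] V) := Set.range fun u : C => (ρ (u : G)).domRestrict W
  have hch : ∀ A : R U, ∃ u : C, (ρ (u : G)).domRestrict U = A.1 := fun A => A.2
  choose g hg using hch
  let φ : R U → R U₁ × R (U ⊓ Orth f U₁) := fun A => (⟨_, ⟨g A, rfl⟩⟩, ⟨_, ⟨g A, rfl⟩⟩)
  refine Nat.card_le_card_of_injective φ ?_
  intro A A' hAA
  have h1 := congrArg (fun p => p.1.1) hAA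
  have h2 := congrArg (fun p => p.2.1) hAA
  apply Subtype.ext
  rw [← hg A, ← hg A']
  apply LinearMap.ext
  rintro ⟨u, hu⟩
  obtain ⟨a, ha, b, hb, rfl⟩ := decomp' hU hn hu
  have h3 : ρ (g A : G) a = ρ (g A' : G) a := LinearMap.congr_fun h1 ⟨a, ha⟩
  have h4 : ρ (g A : G) b = ρ (g A' : G) b := LinearMap.congr_fun h2 ⟨b, hb⟩
  show ρ (g A : G) (a + b) = ρ (g A' : G) (a + b)
  rw [map_add, map_add, h3, h4]

end compl

/-- fixed points of a group of prime power order on a subspace -/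
theorem card_mod {r : ℕ} (hr : r.Prime) {u : G} (hu : ∃ k : ℕ, u ^ r ^ k = 1) (hU : ∀ x ∈ U, ρ u x ∈ U) :
    Nat.card F ^ finrank F U ≡ Nat.card {x : U // ρ u x = x} [MOD r] := by
  classical
  have := Fact.mk hr
  obtain ⟨k, hk⟩ := hu
  have hpow : ∀ n : ℕ, ∀ x ∈ U, ρ (u ^ n) x ∈ U := by
    intro n
    induction n with
    | zero => intro x hx; rwa [pow_zero, one_ap]
    | succ n ih => intro x hx; rw [pow_succ, mul_ap]; exact ih _ (hU x hx)
  have hP : IsPGroup r (Subgroup.zpowers u) := by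
    rintro ⟨_, n, rfl⟩
    refine ⟨k, Subtype.ext ?_⟩
    show ((u ^ n) ^ r ^ k : G) = 1
    rw [← zpow_natCast, ← zpow_mul, mul_comm, zpow_mul, zpow_natCast, hk, one_zpow]
  have hz : ∀ g ∈ Subgroup.zpowers u, ∀ x ∈ U, ρ g x ∈ U := by
    intro g hg x hx
    rw [mem_zpowers_iff_mem_range_orderOf] at hg
    rw [Finset.mem_image] at hg
    obtain ⟨n, -, rfl⟩ := hg
    exact hpow n x hx
  let : MulAction (Subgroup.zpowers u) U :=
    { smul := fun g x => ⟨ρ (g : G) x, hz g g.2 x x.2⟩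
      one_smul := fun x => Subtype.ext (one_ap ρ _)
      mul_smul := fun a b x => Subtype.ext (mul_ap ρ _ _ _) }
  have h1 := hP.card_modEq_card_fixedPoints U
  rw [Module.natCard_eq_pow_finrank (K := F)] at h1
  have h2 : Nat.card (MulAction.fixedPoints (Subgroup.zpowers u) U) = Nat.card {x : U // ρ u x = x} := by
    refine Nat.card_congr (Equiv.subtypeEquivRight ?_)
    intro x
    constructor
    · intro hx
      exact congrArg Subtype.val (hx ⟨u, Subgroup.mem_zpowers u⟩)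
    · intro hx g
      apply Subtype.ext
      show ρ (g : G) x = x
      obtain ⟨g, hg⟩ := g
      rw [mem_zpowers_iff_mem_range_orderOf, Finset.mem_image] at hg
      obtain ⟨n, -, rfl⟩ := hg
      show ρ (u ^ n) x = x
      clear hg
      induction n with
      | zero => rw [pow_zero, one_ap]
      | succ n ih => rw [pow_succ, mul_ap, hx, ih]
  rwa [h2] at h1

/-- `t ∣ q ^ dim U - 1` -/
theorem dvd_of_mn (h : TS ρ f Q t T) (hA2 : A2 ρ f T) (hU : Mn ρ f T U) : t ∣ Nat.card F ^ finrank F U - 1 := by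
  obtain ⟨z, hz, u, hu, hne⟩ := hU.act
  have hzt : ∃ k : ℕ, z ^ t ^ k = 1 := by
    obtain ⟨k, hk⟩ := h.hT ⟨z, hz⟩
    exact ⟨k, congrArg Subtype.val hk⟩
  have h1 := card_mod h.ht hzt (hU.inv z hz) (F := F)
  have h2 : ∀ x ∈ U, ρ z x = x → x = 0 := by
    rcases hA2 U hU z (fun a ha => h.ab a ha z hz) (hU.inv z hz) 1 (one_mul 1) with h3 | h3
    · intro x hx hxx
      exact h3 x hx (by rw [hxx, one_smul])
    · exact absurd (by rw [h3 u hu, one_smul]) hne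
  have h3 : Nat.card {x : U // ρ z x = x} = 1 := by
    rw [Nat.card_eq_one_iff_unique]
    refine ⟨⟨fun a b => ?_⟩, ⟨⟨0, by simp⟩⟩⟩
    apply Subtype.ext
    apply Subtype.ext
    rw [h2 _ a.1.2 a.2, h2 _ b.1.2 b.2]
  rw [h3] at h1
  exact (Nat.modEq_iff_dvd' (Nat.one_le_pow _ _ Nat.card_pos)).mp h1.symm

theorem cnt_bot : cnt ρ T (⊥ : Submodule F V) ≤ 1 := by
  unfold cnt
  rw [Finite.card_le_one_iff_subsingleton]
  refine ⟨fun a b => Subtype.ext (LinearMap.ext fun x => ?_)⟩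
  rw [Subsingleton.elim x 0, map_zero, map_zero]

/-- **Lemma C** -/
theorem exists_list_of (h : TS ρ f Q t T) (hA2 : A2 ρ f T) (hB : B ρ f T) (hi : Inv ρ T U) (hnd : ND f U)
    (h0 : ∀ u ∈ U, (∀ z ∈ T, ρ z u = u) → u = 0) :
    ∃ l : List ℕ, l.sum = finrank F U ∧
      (∀ d ∈ l, ∃ U' ≤ U, Mn ρ f T U' ∧ finrank F U' = d ∧ t ∣ Nat.card F ^ d - 1) ∧
      cnt ρ T U ≤ (l.map fun d => Nat.card F ^ (d / 2) + 1).prod := by
  induction hn : finrank F U using Nat.strong_induction_on generalizing U with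
  | _ n ih =>
    by_cases hU : U = ⊥
    · subst hU
      rw [finrank_bot] at hn
      subst hn
      exact ⟨[], rfl, fun d hd => absurd hd List.not_mem_nil, by simpa using cnt_bot⟩
    · obtain ⟨U₁, hU₁, hne, hmn⟩ := exists_mn hi hnd h0 hU
      have hfr := finrank_compl hU₁ hmn.nd
      have hpos : 0 < finrank F U₁ := by
        rw [Nat.pos_iff_ne_zero]
        intro h1
        exact hne (Submodule.finrank_eq_zero.mp h1)
      obtain ⟨l, hl1, hl2, hl3⟩ := ih (finrank F (U ⊓ Orth f U₁ : Submodule F V)) (by omega)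
        (inv_compl h.toFRep hi hmn.inv) (nd_compl hU₁ hmn.nd hnd) (fun u hu => h0 u hu.1) rfl
      refine ⟨finrank F U₁ :: l, ?_, ?_, ?_⟩
      · rw [List.sum_cons, hl1, hfr, hn]
      · intro d hd
        rcases List.mem_cons.mp hd with rfl | hd
        · exact ⟨U₁, hU₁, hmn, rfl, dvd_of_mn h hA2 hmn⟩
        · obtain ⟨U', hU', h1⟩ := hl2 d hd
          exact ⟨U', hU'.trans inf_le_left, h1⟩
      · rw [List.map_cons, List.prod_cons]
        exact (cnt_mul hU₁ hmn.nd).trans (Nat.mul_le_mul (hB U₁ hmn) hl3)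

/-- `p`-elements of the centraliser of `T` are trivial on minimal subspaces -/
theorem pel_mn (hA2 : A2 ρ f T) (hA3 : A3 ρ f T) {p : ℕ} (hp : p.Prime) [CharP F p] {u : G}
    (hu : ∀ z ∈ T, z * u = u * z) (hup : ∃ j : ℕ, u ^ p ^ j = 1) (hU : Mn ρ f T U) (hne : U ≠ ⊥) :
    ∀ x ∈ U, ρ u x = x := by
  have hinv := hA3 U hU u hu
  have h1 := card_mod hp hup hinv (F := F)
  have hd : finrank F U ≠ 0 := fun h2 => hne (Submodule.finrank_eq_zero.mp h2)
  have hq : p ∣ Nat.card F := by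
    rw [← CharP.cast_eq_zero_iff F p]
    have h3 : Nat.card F • (1 : F) = 0 := card_nsmul_eq_zero'
    rwa [nsmul_one] at h3
  have h2 : p ∣ Nat.card {x : U // ρ u x = x} :=
    (h1.dvd_iff dvd_rfl).mp (dvd_pow hq hd)
  have h3 : 1 < Nat.card {x : U // ρ u x = x} := by
    have h4 : 0 < Nat.card {x : U // ρ u x = x} := by
      have : Nonempty {x : U // ρ u x = x} := ⟨⟨0, by simp⟩⟩
      exact Nat.card_pos
    exact lt_of_lt_of_le hp.one_lt (Nat.le_of_dvd h4 h2)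
  rcases hA2 U hU u hu hinv 1 (one_mul 1) with h4 | h4
  · exfalso
    have h5 : Nat.card {x : U // ρ u x = x} ≤ 1 := by
      rw [Finite.card_le_one_iff_subsingleton]
      refine ⟨fun a b => ?_⟩
      apply Subtype.ext
      apply Subtype.ext
      rw [h4 _ a.1.2 (by rw [a.2, one_smul]), h4 _ b.1.2 (by rw [b.2, one_smul])]
    omega
  · intro x hx
    rw [h4 x hx, one_smul]

theorem pel_sub (h : FRep ρ f) (hA2 : A2 ρ f T) (hA3 : A3 ρ f T) {p : ℕ} (hp : p.Prime) [CharP F p] {u : G}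
    (hu : ∀ z ∈ T, z * u = u * z) (hup : ∃ j : ℕ, u ^ p ^ j = 1) (hi : Inv ρ T U) (hnd : ND f U)
    (h0 : ∀ u ∈ U, (∀ z ∈ T, ρ z u = u) → u = 0) : ∀ x ∈ U, ρ u x = x := by
  induction hn : finrank F U using Nat.strong_induction_on generalizing U with
  | _ n ih =>
    by_cases hU : U = ⊥
    · subst hU
      intro x hx
      rw [Submodule.mem_bot] at hx
      rw [hx, map_zero]
    · obtain ⟨U₁, hU₁, hne, hmn⟩ := exists_mn hi hnd h0 hU
      have hfr := finrank_compl hU₁ hmn.nd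
      have hpos : 0 < finrank F U₁ := by
        rw [Nat.pos_iff_ne_zero]
        intro h1
        exact hne (Submodule.finrank_eq_zero.mp h1)
      have h2 := ih (finrank F (U ⊓ Orth f U₁ : Submodule F V)) (by omega)
        (inv_compl h hi hmn.inv) (nd_compl hU₁ hmn.nd hnd) (fun u hu => h0 u hu.1) rfl
      intro x hx
      obtain ⟨a, ha, b, hb, rfl⟩ := decomp' hU₁ hmn.nd hx
      rw [map_add, h2 b hb, pel_mn hA2 hA3 hp hu hup hmn hne a ha]

theorem inv_CV : Inv ρ T (CV ρ T) := by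
  intro z hz v hv
  have h1 := (CV ρ T).add_mem (sub_mem_CV ρ hz v) hv
  rwa [sub_add_cancel] at h1

theorem nd_CV' (h : TS ρ f Q t T) : ND f (CV ρ T) :=
  nd_CV h.toIsoG (piN_Pi0 Nat.card_pos.ne' (piN_of_pgroup (F := F) h.ht h.hto h.htF h.hT)).2

theorem fix_CV (h : TS ρ f Q t T) : ∀ u ∈ CV ρ T, (∀ z ∈ T, ρ z u = u) → u = 0 := fun u hu hz =>
  nd_CV' h u hu fun x hx => ((mem_Orth_CV h.toIsoG).mpr hz : u ∈ Orth f (CV ρ T)) x hx

/-- **Lemma D** -/
theorem pel_of (h : TS ρ f Q t T) (hA2 : A2 ρ f T) (hA3 : A3 ρ f T) {p : ℕ} (hp : p.Prime) [CharP F p] {u : G}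
    (hu : ∀ z ∈ T, z * u = u * z) (hup : ∃ j : ℕ, u ^ p ^ j = 1) : ∀ x ∈ CV ρ T, ρ u x = x :=
  pel_sub h.toFRep hA2 hA3 hp hu hup inv_CV (nd_CV' h) (fix_CV h)

end Cfsg.Agent.H735.DP
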